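import Cfsg.Agent.Lib.TCX.HSxA.Defs

set_option autoImplicit false
set_option maxRecDepth 100000
set_option Elab.async false

namespace Cfsg.Agent.TCX.HSxA

theorem c0 : l0c 0 0 63 = 0 := by decide +kernel
theorem c1 : l0c 1 0 63 = 0 := by decide +kernel
theorem c2 : l0c 2 0 63 = 0 := by decide +kernel
theorem c3 : l0c 3 0 63 = 0 := by decide +kernel
theorem c4 : l0c 4 0 63 = 0 := by decide +kernel
theorem c5 : l0c 5 0 63 = 0 := by decide +kernel
theorem c6 : l0c 6 0 63 = 0 := by decide +kernel
theorem c7 : l0c 7 0 34 = 0 := by decide +kernel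
theorem c8 : l0c 7 34 29 = 0 := by decide +kernel
theorem c9 : l0m 352 9191 = 0 := by decide +kernel
theorem c10 : l1c 0 0 127 = 0 := by decide +kernel
theorem c11 : l1c 1 0 127 = 0 := by decide +kernel
theorem c12 : l1c 2 0 127 = 0 := by decide +kernel
theorem c13 : l1c 3 0 127 = 0 := by decide +kernel
theorem c14 : l1c 4 0 127 = 0 := by decide +kernel
theorem c15 : l1c 5 0 127 = 0 := by decide +kernel
theorem c16 : l1c 6 0 127 = 0 := by decide +kernel
theorem c17 : l1c 7 0 55 = 0 := by decide +kernel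
theorem c18 : l1c 7 55 72 = 0 := by decide +kernel
theorem c19 : l1m 6300 8928 = 0 := by decide +kernel
theorem c20 : orR l2f 0 8 = 0 := by decide +kernel
theorem c21 : l2m 40 71 = 0 := by decide +kernel
theorem c22 : orR l3f 0 8 = 0 := by decide +kernel
theorem c23 : l3m 6 0 = 0 := by decide +kernel
theorem c24 : orR l4f 0 8 = 0 := by decide +kernel

end Cfsg.Agent.TCX.HSxA
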