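import Cfsg.Agent.Lib.TCX.HSxA.D0

set_option autoImplicit false
set_option maxRecDepth 100000
set_option Elab.async false

namespace Cfsg.Agent.TCX.HSxA

noncomputable def l0t0 : Bt Nat := (.node l0t0_0 l0t0_1)
noncomputable def l0t1 : Bt Nat := (.node l0t1_0 l0t1_1)
noncomputable def l0t2 : Bt Nat := (.node l0t2_0 l0t2_1)
noncomputable def l0t3 : Bt Nat := (.node l0t3_0 l0t3_1)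
noncomputable def l0t4 : Bt Nat := (.node l0t4_0 l0t4_1)
noncomputable def l0t7 : Bt Nat := (.node l0t7_0 l0t7_1)
noncomputable def l0t8 : Bt Nat := (.node l0t8_0 l0t8_1)
noncomputable def l0r0 : Bt Ru := (.node (.node (.node (.node (.leaf ⟨[4,0,4],2,3⟩) (.leaf ⟨[3,1,2,0,3,1,2,0,3,1,2],13,11⟩)) (.node (.leaf ⟨[0,3,0,0,2],6,3⟩) (.leaf ⟨[1],5,0⟩))) (.node (.node (.leaf ⟨[0,2,0,0,3],6,0⟩) (.leaf ⟨[1],5,0⟩)) (.node (.leaf ⟨[2,2,2,0,2,0,2,2,2,0,2,0,2,2,2,0,2,0,2,2,2,0,2],18,20⟩) (.leaf ⟨[1],5,0⟩)))) (.node (.node (.node (.leaf ⟨[1],5,0⟩) (.leaf ⟨[2,0,2,0,2,0,2,0,2,0,2,0,2,0,2],14,0⟩)) (.node (.leaf ⟨[2,1,3,0,2,1,3,0,2,1,3],17,10⟩) (.leaf ⟨[1],5,0⟩))) (.node (.node (.leaf ⟨[4,3,1,3,1,3,3,3,4,2,2,2,0,2,0,2,0,3,1,3,1,3,3,3,4,2,2,2,0,2,0,2,0,3,1,3,1,3,3,3,4,2,2,2,0,2,0,2],7,48⟩)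 (.leaf ⟨[1],5,0⟩)) (.node (.leaf ⟨[3,0,0,2,0],6,4⟩) (.leaf ⟨[1],5,0⟩)))))
noncomputable def l0r1 : Bt Ru := (.node (.node (.node (.node (.leaf ⟨[0],0,0⟩) (.leaf ⟨[3,3,0,3,3,3,1,3,3,0,3,3,3,1,3,3,0,3,3,3],19,17⟩)) (.node (.leaf ⟨[1,3,1,1,2],8,1⟩) (.leaf ⟨[3,0,2,1,3,0,2,1,3,0,2],17,0⟩))) (.node (.node (.leaf ⟨[3,1,3,1,3,3,3,4,2,2,2,0,2,0,2,4,1,3,1,3,1,3,3,3,4,2,2,2,0,2,0,2,1,3,1,3,1,3,3,3,4,2,2,2,0,2,0,2],9,32⟩) (.leaf ⟨[3,1,3,1,3,1,3,1,3,1,3,1,3,1,3],20,15⟩)) (.node (.leaf ⟨[4,1,4],11,0⟩) (.leaf ⟨[0],0,0⟩)))) (.node (.node (.node (.leaf ⟨[2,1,1,3,1],8,5⟩) (.leaf ⟨[2,0,3,1,2,0,3,1,2,0,3],13,9⟩)) (.node (.leaf ⟨[3,3,1,3,1,3,4,2,0,2,0,2,2,0,3,1,1,4,2],15,2⟩) (.leaf ⟨[3,1,3,4,2,0,2,0,2,2,0,3,1,1,4,2,1,3,3],15,5⟩)))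 (.node (.node (.leaf ⟨[1,2,1,1,3],8,4⟩) (.leaf ⟨[3,3,3,1,3,1,3,3,3,1,3,1,3,3,3,1,3,1,3,3,3,1,3],21,23⟩)) (.node (.leaf ⟨[3,1,3,3,3,1,3,1,3,3,3,1,3,1,3,3,3,1,3,1,3,3,3],21,21⟩) (.leaf ⟨[0],0,0⟩)))))
noncomputable def l0r2 : Bt Ru := (.node (.node (.node (.node (.node (.leaf ⟨[3],3,0⟩) (.leaf ⟨[2,0,3,1,1,4,2,1,3,3,1,3,1,3,4,2,0,2,0],15,14⟩)) (.node (.leaf ⟨[0,2,0,2,2,0,3,1,1,4,2,1,3,3,1,3,1,3,4],15,10⟩) (.leaf ⟨[3],3,0⟩))) (.node (.node (.leaf ⟨[0,2,2,2,1,2,2,0,2,2,2,1,2,2,0,2,2,2,1,2],16,16⟩) (.leaf ⟨[3],3,0⟩)) (.node (.leaf ⟨[0,2,2,0,3,1,1,4,2,1,3,3,1,3,1,3,4,2,0],15,12⟩) (.leaf ⟨[3],3,0⟩)))) (.node (.node (.node (.leaf ⟨[0,3,1,2,0,3,1,2,0,3,1],13,10⟩) (.leaf ⟨[3],3,0⟩)) (.node (.leaf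 ⟨[2,2,1,2,2,0,2,2,2,1,2,2,0,2,2,2,1,2,2,0],16,18⟩) (.leaf ⟨[3],3,0⟩))) (.node (.node (.leaf ⟨[2,0,2,2,2,1,2,2,0,2,2,2,1,2,2,0,2,2,2,1],16,15⟩) (.leaf ⟨[3],3,0⟩)) (.node (.leaf ⟨[1,3,0,2,1,3,0,2,1,3,0],17,11⟩) (.leaf ⟨[3],3,0⟩))))) (.node (.node (.node (.node (.leaf ⟨[2,2,2,2,2],12,0⟩) (.leaf ⟨[1,2,2,0,2,2,2,1,2,2,0,2,2,2,1,2,2,0,2,2],16,20⟩)) (.node (.leaf ⟨[0,3,1,1,4,2,1,3,3,1,3,1,3,4,2,0,2,0,2],15,15⟩) (.leaf ⟨[3],3,0⟩))) (.node (.node (.leaf ⟨[2,2,0,2,0,2,2,2,0,2,0,2,2,2,0,2,0,2,2,2,0,2,0],18,21⟩) (.leaf ⟨[3],3,0⟩)) (.node (.leaf ⟨[2,1,2,2,0,2,2,2,1,2,2,0,2,2,2,1,2,2,0,2],16,19⟩) (.leaf ⟨[3],3,0⟩)))) (.node (.node (.node (.leaf ⟨[0,2,0,2,0,2,0,2,0,2,0,2,0,2,0],14,15⟩) (.leaf ⟨[3],3,0⟩))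 (.node (.leaf ⟨[1,3,3,1,3,1,3,4,2,0,2,0,2,2,0,3,1,1,4],15,1⟩) (.leaf ⟨[3],3,0⟩))) (.node (.node (.leaf ⟨[0,2,2,2,0,2,0,2,2,2,0,2,0,2,2,2,0,2,0,2,2,2,0],18,19⟩) (.leaf ⟨[3],3,0⟩)) (.node (.leaf ⟨[2,0,2,0,2,2,2,0,2,0,2,2,2,0,2,0,2,2,2,0,2,0,2],18,22⟩) (.leaf ⟨[3],3,0⟩))))))
noncomputable def l0r3 : Bt Ru := (.node (.node (.node (.node (.node (.leaf ⟨[2],1,0⟩) (.leaf ⟨[1,3,1,3,4,2,0,2,0,2,2,0,3,1,1,4,2,1,3],15,4⟩)) (.node (.leaf ⟨[3,3,1,3,1,3,3,3,1,3,1,3,3,3,1,3,1,3,3,3,1,3,1],21,0⟩) (.leaf ⟨[2],1,0⟩))) (.node (.node (.leaf ⟨[3,1,3,3,0,3,3,3,1,3,3,0,3,3,3,1,3,3,0,3],19,15⟩) (.leaf ⟨[1,3,1,3,3,3,1,3,1,3,3,3,1,3,1,3,3,3,1,3,1,3,3],21,20⟩)) (.node (.leaf ⟨[3,3,1,3,3,0,3,3,3,1,3,3,0,3,3,3,1,3,3,0],19,0⟩)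 (.leaf ⟨[2],1,0⟩)))) (.node (.node (.node (.leaf ⟨[3,3,3,3,3],10,0⟩) (.leaf ⟨[1,3,3,0,3,3,3,1,3,3,0,3,3,3,1,3,3,0,3,3],19,16⟩)) (.node (.leaf ⟨[0,2,1,3,0,2,1,3,0,2,1],17,9⟩) (.leaf ⟨[2],1,0⟩))) (.node (.node (.leaf ⟨[4,2,0,2,0,2,2,0,3,1,1,4,2,1,3,3,1,3,1],15,8⟩) (.leaf ⟨[2],1,0⟩)) (.node (.leaf ⟨[0,3,3,3,1,3,3,0,3,3,3,1,3,3,0,3,3,3,1,3],19,19⟩) (.leaf ⟨[2],1,0⟩))))) (.node (.node (.node (.node (.leaf ⟨[1,3,1,3,3,3,4,2,2,2,0,2,0,2,0,3,1,3,1,3,3,3,4,2,2,2,0,2,0,2,0,3,1,3,1,3,3,3,4,2,2,2,0,2,0,2,0,4],7,1⟩) (.leaf ⟨[1,3,1,3,3,3,4,2,2,2,0,2,0,2,0,4,3,1,3,1,3,3,3,4,2,2,2,0,2,0,2,0,3,1,3,1,3,3,3,4,2,2,2,0,2,0,2,0],7,33⟩)) (.node (.leaf ⟨[1,3,3,3,1,3,1,3,3,3,1,3,1,3,3,3,1,3,1,3,3,3,1],21,22⟩)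 (.leaf ⟨[2],1,0⟩))) (.node (.node (.leaf ⟨[1,3,1,3,1,3,1,3,1,3,1,3,1,3,1],20,0⟩) (.leaf ⟨[2],1,0⟩)) (.node (.leaf ⟨[3,1,3,1,3,4,2,0,2,0,2,2,0,3,1,1,4,2,1],15,3⟩) (.leaf ⟨[2],1,0⟩)))) (.node (.node (.node (.leaf ⟨[1,2,0,3,1,2,0,3,1,2,0],13,0⟩) (.leaf ⟨[3,4,2,2,2,0,2,0,2,0,3,1,3,1,3,3,3,4,2,2,2,0,2,0,2,0,3,1,3,1,3,3,3,4,2,2,2,0,2,0,2,0,4,3,1,3,1,3],7,6⟩)) (.node (.leaf ⟨[1,3,4,2,0,2,0,2,2,0,3,1,1,4,2,1,3,3,1],15,6⟩) (.leaf ⟨[2],1,0⟩))) (.node (.node (.leaf ⟨[3,0,3,3,3,1,3,3,0,3,3,3,1,3,3,0,3,3,3,1],19,18⟩) (.leaf ⟨[2],1,0⟩)) (.node (.leaf ⟨[3,1,3,1,3,3,3,1,3,1,3,3,3,1,3,1,3,3,3,1,3,1,3],21,19⟩) (.leaf ⟨[2],1,0⟩))))))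
noncomputable def l0r4 : Bt Ru := (.node (.node (.node (.leaf ⟨[4],4,0⟩) (.leaf ⟨[2,1,3,3,1,3,1,3,4,2,0,2,0,2,2,0,3,1,1],15,0⟩)) (.node (.leaf ⟨[3,1,3,1,3,3,3,4,2,2,2,0,2,0,2,0,3,1,3,1,3,3,3,4,2,2,2,0,2,0,2,0,3,1,3,1,3,3,3,4,2,2,2,0,2,0,2,0],7,0⟩) (.leaf ⟨[4],4,0⟩))) (.node (.node (.leaf ⟨[0,4,0],2,0⟩) (.leaf ⟨[2,0,2,0,2,2,0,3,1,1,4,2,1,3,3,1,3,1,3],15,9⟩)) (.node (.leaf ⟨[1,4,1],11,3⟩) (.leaf ⟨[4],4,0⟩))))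
noncomputable def l0r5 : Bt Ru := (.leaf ⟨[6],23,0⟩)
noncomputable def l0r6 : Bt Ru := (.leaf ⟨[5],24,0⟩)
noncomputable def l0r7 : Bt Ru := (.node (.node (.node (.node (.node (.node (.node (.leaf ⟨[0,3,0,0,2,0],6,4⟩) (.leaf ⟨[2,0,2,0,2,1,3,1,3,1,3,3,3,4,2,2,2,0,2,0,2,1,3,1,3,1,3,3,3,4,2,2,2,0,2,0,2,4,1,3,1,3,1,3,3,3,4,2,2],9,11⟩)) (.node (.leaf ⟨[3,3,3,3,3,3],10,0⟩) (.leaf ⟨[0,1],5,0⟩))) (.node (.node (.leaf ⟨[0,2,0,2,2,0,3,1,1,4,2,1,3,3,1,3,1,3,4,2],15,11⟩) (.leaf ⟨[0,1],5,0⟩)) (.node (.leaf ⟨[1,3,0,2,1,3,0,2,1,3,0,2],17,0⟩) (.leaf ⟨[0,1],5,0⟩)))) (.node (.node (.node (.leaf ⟨[3,0,2,1,3,0,2,1,3,0,2,1],17,9⟩) (.leaf ⟨[3,3,1,3,1,3,4,2,0,2,0,2,2,0,3,4,0,0,2,1],22,4⟩)) (.node (.leaf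 ⟨[2,2,0,3,4,0,0,2,1,3,3,1,3,1,3,4,2,0,2,0],22,15⟩) (.leaf ⟨[0,1],5,0⟩))) (.node (.node (.leaf ⟨[0,2,0,2,0,2,0,2,0,2,0,2,0,2,0,2],14,0⟩) (.leaf ⟨[0,1],5,0⟩)) (.node (.leaf ⟨[2,2,0,2,0,2,2,2,0,2,0,2,2,2,0,2,0,2,2,2,0,2,0,2],18,22⟩) (.leaf ⟨[0,1],5,0⟩))))) (.node (.node (.node (.node (.leaf ⟨[1,3,1,3,1,3,3,3,4,2,2,2,0,2,0,2,1,3,1,3,1,3,3,3,4,2,2,2,0,2,0,2,1,3,1,3,1,3,3,3,4,2,2,2,0,2,0,2,4],9,0⟩) (.leaf ⟨[2,0,2,2,2,0,2,0,2,2,2,0,2,0,2,2,2,0,2,0,2,2,2,0],18,19⟩)) (.node (.leaf ⟨[1,3,3,3,1,3,1,3,3,3,1,3,1,3,3,3,1,3,1,3,3,3,1,3],21,23⟩) (.leaf ⟨[0,1],5,0⟩))) (.node (.node (.leaf ⟨[3,1,3,1,3,1,3,1,3,1,3,1,3,1,3,1],20,0⟩) (.leaf ⟨[0,1],5,0⟩)) (.node (.leaf ⟨[1,3,3,0,3,3,3,1,3,3,0,3,3,3,1,3,3,0,3,3,3],19,17⟩)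 (.leaf ⟨[0,1],5,0⟩)))) (.node (.node (.node (.leaf ⟨[3,0,3,3,3,1,3,3,0,3,3,3,1,3,3,0,3,3,3,1,3],19,19⟩) (.leaf ⟨[0,1],5,0⟩)) (.node (.leaf ⟨[0,2,1,3,0,2,1,3,0,2,1,3],17,10⟩) (.leaf ⟨[0,1],5,0⟩))) (.node (.node (.leaf ⟨[2,2,2,0,2,0,2,0,4,3,1,3,1,3,3,3,4,2,2,2,0,2,0,2,0,3,1,3,1,3,3,3,4,2,2,2,0,2,0,2,0,3,1,3,1,3,3,3,4],7,41⟩) (.leaf ⟨[0,1],5,0⟩)) (.node (.leaf ⟨[2,0,2,0,2,2,2,0,2,0,2,2,2,0,2,0,2,2,2,0,2,0,2,2],18,23⟩) (.leaf ⟨[0,1],5,0⟩)))))) (.node (.node (.node (.node (.node (.leaf ⟨[2,2,0,2,0,2,0,4,3,1,3,1,3,3,3,4,2,2,2,0,2,0,2,0,3,1,3,1,3,3,3,4,2,2,2,0,2,0,2,0,3,1,3,1,3,3,3,4,2],7,42⟩) (.leaf ⟨[2,2,2,1,2,2,0,2,2,2,1,2,2,0,2,2,2,1,2,2,0],16,18⟩)) (.node (.leaf ⟨[3,3,1,3,1,3,4,2,0,2,0,2,2,0,3,1,1,4,2,1],15,3⟩)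 (.leaf ⟨[0,1],5,0⟩))) (.node (.node (.leaf ⟨[2,0,2,0,2,0,3,1,3,1,3,3,3,4,2,2,2,0,2,0,2,0,3,1,3,1,3,3,3,4,2,2,2,0,2,0,2,0,4,3,1,3,1,3,3,3,4,2,2],7,11⟩) (.leaf ⟨[0,1],5,0⟩)) (.node (.leaf ⟨[3,3,3,1,3,3,0,3,3,3,1,3,3,0,3,3,3,1,3,3,0],19,0⟩) (.leaf ⟨[0,1],5,0⟩)))) (.node (.node (.node (.leaf ⟨[2,2,0,2,0,2,1,3,1,3,1,3,3,3,4,2,2,2,0,2,0,2,1,3,1,3,1,3,3,3,4,2,2,2,0,2,0,2,4,1,3,1,3,1,3,3,3,4,2],9,10⟩) (.leaf ⟨[0,1],5,0⟩)) (.node (.leaf ⟨[1,3,3,1,3,1,3,4,2,0,2,0,2,2,0,3,1,1,4,2],15,2⟩) (.leaf ⟨[0,1],5,0⟩))) (.node (.node (.leaf ⟨[0,3,3,3,1,3,3,0,3,3,3,1,3,3,0,3,3,3,1,3,3],19,20⟩) (.leaf ⟨[0,1],5,0⟩)) (.node (.leaf ⟨[3,3,0,3,3,3,1,3,3,0,3,3,3,1,3,3,0,3,3,3,1],19,18⟩) (.leaf ⟨[0,1],5,0⟩)))))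 (.node (.node (.node (.node (.leaf ⟨[2,0,2,0,2,2,0,3,1,1,4,2,1,3,3,1,3,1,3,4],15,10⟩) (.leaf ⟨[3,1,3,3,3,1,3,1,3,3,3,1,3,1,3,3,3,1,3,1,3,3,3,1],21,22⟩)) (.node (.leaf ⟨[1,3,1,3,3,3,4,2,2,2,0,2,0,2,1,3,1,3,1,3,3,3,4,2,2,2,0,2,0,2,1,3,1,3,1,3,3,3,4,2,2,2,0,2,0,2,4,1,3],9,2⟩) (.leaf ⟨[0,1],5,0⟩))) (.node (.node (.leaf ⟨[3,1,3,3,3,4,2,2,2,0,2,0,2,0,3,1,3,1,3,3,3,4,2,2,2,0,2,0,2,0,3,1,3,1,3,3,3,4,2,2,2,0,2,0,2,0,4,3,1],7,3⟩) (.leaf ⟨[0,1],5,0⟩)) (.node (.leaf ⟨[3,3,3,1,3,1,3,3,3,1,3,1,3,3,3,1,3,1,3,3,3,1,3,1],21,0⟩) (.leaf ⟨[0,1],5,0⟩)))) (.node (.node (.node (.leaf ⟨[3,1,3,1,3,3,3,1,3,1,3,3,3,1,3,1,3,3,3,1,3,1,3,3],21,20⟩) (.leaf ⟨[0,1],5,0⟩)) (.node (.leaf ⟨[3,1,3,4,2,0,2,0,2,2,0,3,4,0,0,2,1,3,3,1],22,7⟩)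 (.leaf ⟨[0,1],5,0⟩))) (.node (.node (.leaf ⟨[2,2,2,0,2,0,2,2,2,0,2,0,2,2,2,0,2,0,2,2,2,0,2,0],18,21⟩) (.leaf ⟨[0,1],5,0⟩)) (.node (.leaf ⟨[0,2,0,2,0,3,1,3,1,3,3,3,4,2,2,2,0,2,0,2,0,3,1,3,1,3,3,3,4,2,2,2,0,2,0,2,0,4,3,1,3,1,3,3,3,4,2,2,2],7,12⟩) (.leaf ⟨[0,1],5,0⟩))))))) (.node (.node (.node (.node (.node (.node (.leaf ⟨[4,2,0,2,0,2,2,0,3,1,1,4,2,1,3,3,1,3,1,3],15,9⟩) (.leaf ⟨[1,3,3,3,4,2,2,2,0,2,0,2,0,3,1,3,1,3,3,3,4,2,2,2,0,2,0,2,0,4,3,1,3,1,3,3,3,4,2,2,2,0,2,0,2,0,3,1,3],7,20⟩)) (.node (.leaf ⟨[3,1,3,1,3,3,3,4,2,2,2,0,2,0,2,0,4,3,1,3,1,3,3,3,4,2,2,2,0,2,0,2,0,3,1,3,1,3,3,3,4,2,2,2,0,2,0,2,0],7,33⟩) (.leaf ⟨[0,1],5,0⟩))) (.node (.node (.leaf ⟨[3,1,3,1,3,3,3,4,2,2,2,0,2,0,2,0,3,1,3,1,3,3,3,4,2,2,2,0,2,0,2,0,3,1,3,1,3,3,3,4,2,2,2,0,2,0,2,0,4],7,1⟩)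 (.leaf ⟨[0,1],5,0⟩)) (.node (.leaf ⟨[3,1,3,3,3,4,2,2,2,0,2,0,2,0,4,3,1,3,1,3,3,3,4,2,2,2,0,2,0,2,0,3,1,3,1,3,3,3,4,2,2,2,0,2,0,2,0,3,1],7,35⟩) (.leaf ⟨[0,1],5,0⟩)))) (.node (.node (.node (.leaf ⟨[1,3,1,3,1,3,1,3,1,3,1,3,1,3,1,3],20,15⟩) (.leaf ⟨[0,1],5,0⟩)) (.node (.leaf ⟨[2,0,2,4,1,3,1,3,1,3,3,3,4,2,2,2,0,2,0,2,1,3,1,3,1,3,3,3,4,2,2,2,0,2,0,2,1,3,1,3,1,3,3,3,4,2,2,2,0],9,45⟩) (.leaf ⟨[0,1],5,0⟩))) (.node (.node (.leaf ⟨[2,0,2,2,2,1,2,2,0,2,2,2,1,2,2,0,2,2,2,1,2],16,16⟩) (.leaf ⟨[0,1],5,0⟩)) (.node (.leaf ⟨[3,1,2,0,3,1,2,0,3,1,2,0],13,0⟩) (.leaf ⟨[0,1],5,0⟩))))) (.node (.node (.node (.node (.leaf ⟨[2,1,3,3,1,3,1,3,4,2,0,2,0,2,2,0,3,1,1,4],15,1⟩) (.leaf ⟨[3,3,3,4,2,2,2,0,2,0,2,1,3,1,3,1,3,3,3,4,2,2,2,0,2,0,2,1,3,1,3,1,3,3,3,4,2,2,2,0,2,0,2,4,1,3,1,3,1],9,5⟩))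 (.node (.leaf ⟨[0,2,2,2,1,2,2,0,2,2,2,1,2,2,0,2,2,2,1,2,2],16,17⟩) (.leaf ⟨[0,1],5,0⟩))) (.node (.node (.leaf ⟨[2,0,2,0,2,0,2,0,2,0,2,0,2,0,2,0],14,15⟩) (.leaf ⟨[0,1],5,0⟩)) (.node (.leaf ⟨[0,2,0,2,0,4,3,1,3,1,3,3,3,4,2,2,2,0,2,0,2,0,3,1,3,1,3,3,3,4,2,2,2,0,2,0,2,0,3,1,3,1,3,3,3,4,2,2,2],7,44⟩) (.leaf ⟨[0,1],5,0⟩)))) (.node (.node (.node (.leaf ⟨[1,3,1,3,3,3,4,2,2,2,0,2,0,2,0,4,3,1,3,1,3,3,3,4,2,2,2,0,2,0,2,0,3,1,3,1,3,3,3,4,2,2,2,0,2,0,2,0,3],7,34⟩) (.leaf ⟨[0,1],5,0⟩)) (.node (.leaf ⟨[2,2,0,2,2,2,1,2,2,0,2,2,2,1,2,2,0,2,2,2,1],16,15⟩) (.leaf ⟨[0,1],5,0⟩))) (.node (.node (.leaf ⟨[1,2,2,0,2,2,2,1,2,2,0,2,2,2,1,2,2,0,2,2,2],16,0⟩) (.leaf ⟨[0,1],5,0⟩)) (.node (.leaf ⟨[3,3,1,3,3,0,3,3,3,1,3,3,0,3,3,3,1,3,3,0,3],19,15⟩)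 (.leaf ⟨[0,1],5,0⟩)))))) (.node (.node (.node (.node (.node (.leaf ⟨[4,2,2,2,0,2,0,2,0,4,3,1,3,1,3,3,3,4,2,2,2,0,2,0,2,0,3,1,3,1,3,3,3,4,2,2,2,0,2,0,2,0,3,1,3,1,3,3,3],7,40⟩) (.leaf ⟨[3,3,1,3,1,3,3,3,1,3,1,3,3,3,1,3,1,3,3,3,1,3,1,3],21,19⟩)) (.node (.leaf ⟨[3,1,3,1,3,4,2,0,2,0,2,2,0,3,1,1,4,2,1,3],15,4⟩) (.leaf ⟨[0,1],5,0⟩))) (.node (.node (.leaf ⟨[2,2,0,3,1,1,4,2,1,3,3,1,3,1,3,4,2,0,2,0],15,14⟩) (.leaf ⟨[0,1],5,0⟩)) (.node (.leaf ⟨[2,0,3,1,2,0,3,1,2,0,3,1],13,10⟩) (.leaf ⟨[0,1],5,0⟩)))) (.node (.node (.node (.leaf ⟨[2,0,2,0,2,0,4,3,1,3,1,3,3,3,4,2,2,2,0,2,0,2,0,3,1,3,1,3,3,3,4,2,2,2,0,2,0,2,0,3,1,3,1,3,3,3,4,2,2],7,43⟩) (.leaf ⟨[0,1],5,0⟩)) (.node (.leaf ⟨[2,2,2,2,2,2],12,0⟩) (.leaf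 ⟨[0,1],5,0⟩))) (.node (.node (.leaf ⟨[2,2,0,2,0,2,0,3,1,3,1,3,3,3,4,2,2,2,0,2,0,2,0,4,3,1,3,1,3,3,3,4,2,2,2,0,2,0,2,0,3,1,3,1,3,3,3,4,2],7,26⟩) (.leaf ⟨[0,1],5,0⟩)) (.node (.leaf ⟨[2,1,3,0,2,1,3,0,2,1,3,0],17,11⟩) (.leaf ⟨[0,1],5,0⟩))))) (.node (.node (.node (.node (.leaf ⟨[2,2,1,2,2,0,2,2,2,1,2,2,0,2,2,2,1,2,2,0,2],16,19⟩) (.leaf ⟨[1,3,1,3,3,3,1,3,1,3,3,3,1,3,1,3,3,3,1,3,1,3,3,3],21,21⟩)) (.node (.leaf ⟨[2,1,2,2,0,2,2,2,1,2,2,0,2,2,2,1,2,2,0,2,2],16,20⟩) (.leaf ⟨[0,1],5,0⟩))) (.node (.node (.leaf ⟨[1,3,3,3,4,2,2,2,0,2,0,2,0,3,1,3,1,3,3,3,4,2,2,2,0,2,0,2,0,3,1,3,1,3,3,3,4,2,2,2,0,2,0,2,0,4,3,1,3],7,4⟩) (.leaf ⟨[0,1],5,0⟩)) (.node (.leaf ⟨[2,0,2,0,2,4,1,3,1,3,1,3,3,3,4,2,2,2,0,2,0,2,1,3,1,3,1,3,3,3,4,2,2,2,0,2,0,2,1,3,1,3,1,3,3,3,4,2,2],9,43⟩)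 (.leaf ⟨[0,1],5,0⟩)))) (.node (.node (.node (.leaf ⟨[0,2,2,0,3,1,1,4,2,1,3,3,1,3,1,3,4,2,0,2],15,13⟩) (.leaf ⟨[0,1],5,0⟩)) (.node (.leaf ⟨[2,0,2,2,0,3,1,1,4,2,1,3,3,1,3,1,3,4,2,0],15,12⟩) (.leaf ⟨[0,1],5,0⟩))) (.node (.node (.leaf ⟨[1,3,3,3,4,2,2,2,0,2,0,2,0,4,3,1,3,1,3,3,3,4,2,2,2,0,2,0,2,0,3,1,3,1,3,3,3,4,2,2,2,0,2,0,2,0,3,1,3],7,36⟩) (.leaf ⟨[0,1],5,0⟩)) (.node (.leaf ⟨[2,0,2,1,3,1,3,1,3,3,3,4,2,2,2,0,2,0,2,1,3,1,3,1,3,3,3,4,2,2,2,0,2,0,2,4,1,3,1,3,1,3,3,3,4,2,2,2,0],9,13⟩) (.leaf ⟨[0,1],5,0⟩))))))))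
noncomputable def l1t0 : Bt Nat := (.node l1t0_0 l1t0_1)
noncomputable def l1t1 : Bt Nat := (.node l1t1_0 l1t1_1)
noncomputable def l1t2 : Bt Nat := (.node l1t2_0 l1t2_1)
noncomputable def l1t3 : Bt Nat := (.node l1t3_0 l1t3_1)
noncomputable def l1t5 : Bt Nat := (.node l1t5_0 l1t5_1)
noncomputable def l1t6 : Bt Nat := (.node l1t6_0 l1t6_1)
noncomputable def l1t7 : Bt Nat := (.node l1t7_0 l1t7_1)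
noncomputable def l1t8 : Bt Nat := (.node l1t8_0 l1t8_1)
noncomputable def l1r0 : Bt Ru := (.node (.node (.node (.node (.leaf ⟨[0,2,0,0,3],6,0⟩) (.leaf ⟨[3,1,2,0,3,1,2,0,3,1,2],13,11⟩)) (.node (.leaf ⟨[2,2,2,0,6],25,1⟩) (.leaf ⟨[2,0,2,2,2,0,2,0,2,2,2,0,2,0,2,2,2,0,2,0,2,2,2],18,0⟩))) (.node (.node (.leaf ⟨[1],5,0⟩) (.leaf ⟨[3,3,3,1,3,3,0,3,3,3,1,3,3,0,3,3,3,1,3,3],19,20⟩)) (.node (.leaf ⟨[2,0,0,3,0],6,1⟩) (.leaf ⟨[1],5,0⟩)))) (.node (.node (.node (.leaf ⟨[3,0,0,2,0],6,4⟩) (.leaf ⟨[2,0,2,0,2,0,2,0,2,0,2,0,2,0,2],14,0⟩)) (.node (.leaf ⟨[6,0,2,2,2],25,5⟩) (.leaf ⟨[1],5,0⟩))) (.node (.node (.leaf ⟨[0,3,0,0,2],6,3⟩) (.leaf ⟨[2,2,2,1,2,2,0,2,2,2,1,2,2,0,2,2,2,1,2,2],16,17⟩)) (.node (.leaf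 ⟨[2,1,3,0,2,1,3,0,2,1,3],17,10⟩) (.leaf ⟨[1],5,0⟩)))))
noncomputable def l1r1 : Bt Ru := (.node (.node (.node (.node (.leaf ⟨[0],0,0⟩) (.leaf ⟨[3,1,1,2,1],8,2⟩)) (.node (.leaf ⟨[1,2,1,1,3],8,4⟩) (.leaf ⟨[2,2,0,2,2,2,1,2,2,0,2,2,2,1,2,2,0,2,2,2],16,0⟩))) (.node (.node (.leaf ⟨[5,1,3,3,3],26,4⟩) (.leaf ⟨[3,1,3,1,3,1,3,1,3,1,3,1,3,1,3],20,15⟩)) (.node (.leaf ⟨[2,0,3,1,2,0,3,1,2,0,3],13,9⟩) (.leaf ⟨[0],0,0⟩)))) (.node (.node (.node (.leaf ⟨[2,1,1,3,1],8,5⟩) (.leaf ⟨[3,1,3,3,3,1,3,1,3,3,3,1,3,1,3,3,3,1,3,1,3,3,3],21,21⟩)) (.node (.leaf ⟨[3,3,3,1,5],26,0⟩) (.leaf ⟨[0],0,0⟩))) (.node (.node (.leaf ⟨[1,3,1,1,2],8,1⟩) (.leaf ⟨[3,3,0,3,3,3,1,3,3,0,3,3,3,1,3,3,0,3,3,3],19,17⟩)) (.node (.leaf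 ⟨[3,0,2,1,3,0,2,1,3,0,2],17,0⟩) (.leaf ⟨[0],0,0⟩)))))
noncomputable def l1r2 : Bt Ru := (.node (.node (.node (.node (.node (.leaf ⟨[2,0,6,0,2],25,3⟩) (.leaf ⟨[0,0,3,0,0],6,2⟩)) (.node (.leaf ⟨[0,2,2,2,1,2,2,0,2,2,2,1,2,2,0,2,2,2,1,2],16,16⟩) (.leaf ⟨[3],3,0⟩))) (.node (.node (.leaf ⟨[2,1,2,2,0,2,2,2,1,2,2,0,2,2,2,1,2,2,0,2],16,19⟩) (.leaf ⟨[3],3,0⟩)) (.node (.leaf ⟨[0,2,0,2,2,2,0,2,0,2,2,2,0,2,0,2,2,2,0,2,0,2,2],18,23⟩) (.leaf ⟨[3],3,0⟩)))) (.node (.node (.node (.leaf ⟨[1,3,0,2,1,3,0,2,1,3,0],17,11⟩) (.leaf ⟨[3],3,0⟩)) (.node (.leaf ⟨[0,6,0,2,2],25,4⟩) (.leaf ⟨[3],3,0⟩))) (.node (.node (.leaf ⟨[2,2,2,2,2],12,0⟩) (.leaf ⟨[3],3,0⟩)) (.node (.leaf ⟨[2,2,1,2,2,0,2,2,2,1,2,2,0,2,2,2,1,2,2,0],16,18⟩)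 (.leaf ⟨[3],3,0⟩))))) (.node (.node (.node (.node (.leaf ⟨[3],3,0⟩) (.leaf ⟨[3],3,0⟩)) (.node (.leaf ⟨[0,3,1,2,0,3,1,2,0,3,1],13,10⟩) (.leaf ⟨[3],3,0⟩))) (.node (.node (.leaf ⟨[2,0,2,0,2,2,2,0,2,0,2,2,2,0,2,0,2,2,2,0,2,0,2],18,22⟩) (.leaf ⟨[3],3,0⟩)) (.node (.leaf ⟨[2,0,2,2,2,1,2,2,0,2,2,2,1,2,2,0,2,2,2,1],16,15⟩) (.leaf ⟨[3],3,0⟩)))) (.node (.node (.node (.leaf ⟨[0,2,0,2,0,2,0,2,0,2,0,2,0,2,0],14,15⟩) (.leaf ⟨[3],3,0⟩)) (.node (.leaf ⟨[2,2,0,2,0,2,2,2,0,2,0,2,2,2,0,2,0,2,2,2,0,2,0],18,21⟩) (.leaf ⟨[3],3,0⟩))) (.node (.node (.leaf ⟨[0,2,2,2,0,2,0,2,2,2,0,2,0,2,2,2,0,2,0,2,2,2,0],18,19⟩) (.leaf ⟨[3],3,0⟩)) (.node (.leaf ⟨[1,2,2,0,2,2,2,1,2,2,0,2,2,2,1,2,2,0,2,2],16,20⟩) (.leaf ⟨[3],3,0⟩))))))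
noncomputable def l1r3 : Bt Ru := (.node (.node (.node (.node (.leaf ⟨[2],1,0⟩) (.leaf ⟨[3,1,3,3,0,3,3,3,1,3,3,0,3,3,3,1,3,3,0,3],19,15⟩)) (.node (.leaf ⟨[1,3,1,3,1,3,1,3,1,3,1,3,1,3,1],20,0⟩) (.leaf ⟨[0,2,1,3,0,2,1,3,0,2,1],17,9⟩))) (.node (.node (.leaf ⟨[1,2,0,3,1,2,0,3,1,2,0],13,0⟩) (.leaf ⟨[0,3,3,3,1,3,3,0,3,3,3,1,3,3,0,3,3,3,1,3],19,19⟩)) (.node (.leaf ⟨[1,3,3,3,1,3,1,3,3,3,1,3,1,3,3,3,1,3,1,3,3,3,1],21,22⟩) (.leaf ⟨[1,3,3,0,3,3,3,1,3,3,0,3,3,3,1,3,3,0,3,3],19,16⟩)))) (.node (.node (.node (.leaf ⟨[3,3,3,3,3],10,0⟩) (.leaf ⟨[3,1,3,1,3,3,3,1,3,1,3,3,3,1,3,1,3,3,3,1,3,1,3],21,19⟩)) (.node (.leaf ⟨[1,5,1,3,3],26,3⟩) (.leaf ⟨[1,3,1,3,3,3,1,3,1,3,3,3,1,3,1,3,3,3,1,3,1,3,3],21,20⟩)))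 (.node (.node (.leaf ⟨[3,3,1,3,3,0,3,3,3,1,3,3,0,3,3,3,1,3,3,0],19,0⟩) (.leaf ⟨[3,0,3,3,3,1,3,3,0,3,3,3,1,3,3,0,3,3,3,1],19,18⟩)) (.node (.leaf ⟨[3,3,1,3,1,3,3,3,1,3,1,3,3,3,1,3,1,3,3,3,1,3,1],21,0⟩) (.leaf ⟨[0,0,2,0,0],6,5⟩)))))
noncomputable def l1r4 : Bt Ru := (.leaf ⟨[4],4,0⟩)
noncomputable def l1r5 : Bt Ru := (.node (.leaf ⟨[6],23,0⟩) (.leaf ⟨[1,3,3,3,1],26,5⟩))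
noncomputable def l1r6 : Bt Ru := (.node (.leaf ⟨[5],24,0⟩) (.leaf ⟨[0,2,2,2,0],25,0⟩))
noncomputable def l1r7 : Bt Ru := (.node (.node (.node (.node (.node (.node (.leaf ⟨[1,3,3,0,3,3,3,1,3,3,0,3,3,3,1,3,3,0,3,3,3],19,17⟩) (.leaf ⟨[0,3,3,3,1,3,3,0,3,3,3,1,3,3,0,3,3,3,1,3,3],19,20⟩)) (.node (.leaf ⟨[2,2,1,2,2,0,2,2,2,1,2,2,0,2,2,2,1,2,2,0,2],16,19⟩) (.leaf ⟨[0,1],5,0⟩))) (.node (.node (.leaf ⟨[3,1,2,0,3,1,2,0,3,1,2,0],13,0⟩) (.leaf ⟨[0,2,2,2,0,2,0,2,2,2,0,2,0,2,2,2,0,2,0,2,2,2,0,2],18,20⟩)) (.node (.leaf ⟨[2,0,2,0,2,0,2,0,2,0,2,0,2,0,2,0],14,15⟩) (.leaf ⟨[0,1],5,0⟩)))) (.node (.node (.node (.leaf ⟨[5,1,3,3,3,1],26,5⟩) (.leaf ⟨[2,0,2,0,2,2,2,0,2,0,2,2,2,0,2,0,2,2,2,0,2,0,2,2],18,23⟩))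 (.node (.leaf ⟨[2,0,3,1,2,0,3,1,2,0,3,1],13,10⟩) (.leaf ⟨[0,1],5,0⟩))) (.node (.node (.leaf ⟨[0,2,2,2,1,2,2,0,2,2,2,1,2,2,0,2,2,2,1,2,2],16,17⟩) (.leaf ⟨[0,2,2,2,0,6],25,1⟩)) (.node (.leaf ⟨[2,0,2,2,2,0,2,0,2,2,2,0,2,0,2,2,2,0,2,0,2,2,2,0],18,19⟩) (.leaf ⟨[0,1],5,0⟩))))) (.node (.node (.node (.node (.leaf ⟨[1,3,1,1,2,1],8,2⟩) (.leaf ⟨[3,0,3,3,3,1,3,3,0,3,3,3,1,3,3,0,3,3,3,1,3],19,19⟩)) (.node (.leaf ⟨[3,3,3,1,3,1,3,3,3,1,3,1,3,3,3,1,3,1,3,3,3,1,3,1],21,0⟩) (.leaf ⟨[0,1],5,0⟩))) (.node (.node (.leaf ⟨[0,2,0,2,2,2,0,2,0,2,2,2,0,2,0,2,2,2,0,2,0,2,2,2],18,0⟩) (.leaf ⟨[0,6,0,2,2,2],25,5⟩)) (.node (.leaf ⟨[3,1,3,3,0,3,3,3,1,3,3,0,3,3,3,1,3,3,0,3,3],19,16⟩) (.leaf ⟨[0,1],5,0⟩)))) (.node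 (.node (.node (.leaf ⟨[6,0,2,2,2,0],25,0⟩) (.leaf ⟨[2,1,2,2,0,2,2,2,1,2,2,0,2,2,2,1,2,2,0,2,2],16,20⟩)) (.node (.leaf ⟨[3,1,3,3,3,1,3,1,3,3,3,1,3,1,3,3,3,1,3,1,3,3,3,1],21,22⟩) (.leaf ⟨[0,1],5,0⟩))) (.node (.node (.leaf ⟨[3,3,1,3,3,0,3,3,3,1,3,3,0,3,3,3,1,3,3,0,3],19,15⟩) (.leaf ⟨[0,2,0,0,3,0],6,1⟩)) (.node (.leaf ⟨[1,3,3,3,1,3,1,3,3,3,1,3,1,3,3,3,1,3,1,3,3,3,1,3],21,23⟩) (.leaf ⟨[0,1],5,0⟩)))))) (.node (.node (.node (.node (.node (.leaf ⟨[2,2,2,2,2,2],12,0⟩) (.leaf ⟨[2,1,3,0,2,1,3,0,2,1,3,0],17,11⟩)) (.node (.leaf ⟨[0,2,1,3,0,2,1,3,0,2,1,3],17,10⟩) (.leaf ⟨[0,1],5,0⟩))) (.node (.node (.leaf ⟨[0,3,0,0,2,0],6,4⟩) (.leaf ⟨[2,2,0,2,0,2,2,2,0,2,0,2,2,2,0,2,0,2,2,2,0,2,0,2],18,22⟩)) (.node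 (.leaf ⟨[1,3,1,3,3,3,1,3,1,3,3,3,1,3,1,3,3,3,1,3,1,3,3,3],21,21⟩) (.leaf ⟨[0,1],5,0⟩)))) (.node (.node (.node (.leaf ⟨[1,3,3,3,1,5],26,0⟩) (.leaf ⟨[2,2,2,1,2,2,0,2,2,2,1,2,2,0,2,2,2,1,2,2,0],16,18⟩)) (.node (.leaf ⟨[3,3,0,3,3,3,1,3,3,0,3,3,3,1,3,3,0,3,3,3,1],19,18⟩) (.leaf ⟨[0,1],5,0⟩))) (.node (.node (.leaf ⟨[0,2,0,2,0,2,0,2,0,2,0,2,0,2,0,2],14,0⟩) (.leaf ⟨[3,3,1,3,1,3,3,3,1,3,1,3,3,3,1,3,1,3,3,3,1,3,1,3],21,19⟩)) (.node (.leaf ⟨[1,2,2,0,2,2,2,1,2,2,0,2,2,2,1,2,2,0,2,2,2],16,0⟩) (.leaf ⟨[0,1],5,0⟩))))) (.node (.node (.node (.node (.leaf ⟨[3,3,3,3,3,3],10,0⟩) (.leaf ⟨[3,0,2,1,3,0,2,1,3,0,2,1],17,9⟩)) (.node (.leaf ⟨[1,3,0,2,1,3,0,2,1,3,0,2],17,0⟩) (.leaf ⟨[0,1],5,0⟩))) (.node (.node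 (.leaf ⟨[2,0,2,2,2,1,2,2,0,2,2,2,1,2,2,0,2,2,2,1,2],16,16⟩) (.leaf ⟨[1,5,1,3,3,3],26,4⟩)) (.node (.leaf ⟨[1,2,0,3,1,2,0,3,1,2,0,3],13,9⟩) (.leaf ⟨[0,1],5,0⟩)))) (.node (.node (.node (.leaf ⟨[2,0,0,3,0,0],6,2⟩) (.leaf ⟨[2,2,0,2,2,2,1,2,2,0,2,2,2,1,2,2,0,2,2,2,1],16,15⟩)) (.node (.leaf ⟨[1,3,1,3,1,3,1,3,1,3,1,3,1,3,1,3],20,15⟩) (.leaf ⟨[0,1],5,0⟩))) (.node (.node (.leaf ⟨[3,1,3,1,3,1,3,1,3,1,3,1,3,1,3,1],20,0⟩) (.leaf ⟨[2,2,2,0,2,0,2,2,2,0,2,0,2,2,2,0,2,0,2,2,2,0,2,0],18,21⟩)) (.node (.leaf ⟨[3,3,3,1,3,3,0,3,3,3,1,3,3,0,3,3,3,1,3,3,0],19,0⟩) (.leaf ⟨[0,1],5,0⟩)))))))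
noncomputable def l2r0 : Bt Ru := (.node (.node (.node (.leaf ⟨[3,0,0,2,0],6,4⟩) (.leaf ⟨[0,2,0,0,3],6,0⟩)) (.node (.leaf ⟨[2,0,0,3,0],6,1⟩) (.leaf ⟨[2,2,2,0,6],25,1⟩))) (.node (.node (.leaf ⟨[1],5,0⟩) (.leaf ⟨[0,3,0,0,2],6,3⟩)) (.node (.leaf ⟨[6,0,2,2,2],25,5⟩) (.leaf ⟨[1],5,0⟩))))
noncomputable def l2r1 : Bt Ru := (.node (.node (.node (.node (.leaf ⟨[0],0,0⟩) (.leaf ⟨[1,3,1,1,2],8,1⟩)) (.node (.leaf ⟨[2,2,0,2,2,2,1,2,2,0,2,2,2,1,2,2,0,2,2,2],16,0⟩) (.leaf ⟨[0],0,0⟩))) (.node (.node (.leaf ⟨[5,1,3,3,3],26,4⟩) (.leaf ⟨[0],0,0⟩)) (.node (.leaf ⟨[1,2,1,1,3],8,4⟩) (.leaf ⟨[0],0,0⟩)))) (.node (.node (.node (.leaf ⟨[3,3,3,1,5],26,0⟩) (.leaf ⟨[0],0,0⟩)) (.node (.leaf ⟨[3,0,2,1,3,0,2,1,3,0,2],17,0⟩)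 (.leaf ⟨[0],0,0⟩))) (.node (.node (.leaf ⟨[3,1,1,2,1],8,2⟩) (.leaf ⟨[0],0,0⟩)) (.node (.leaf ⟨[2,1,1,3,1],8,5⟩) (.leaf ⟨[0],0,0⟩)))))
noncomputable def l2r2 : Bt Ru := (.node (.node (.node (.node (.leaf ⟨[3],3,0⟩) (.leaf ⟨[2,2,0,6,0],25,2⟩)) (.node (.leaf ⟨[0,0,3,0,0],6,2⟩) (.leaf ⟨[3],3,0⟩))) (.node (.node (.leaf ⟨[1,1,3,1,1],8,0⟩) (.leaf ⟨[0,6,0,2,2],25,4⟩)) (.node (.leaf ⟨[2,0,6,0,2],25,3⟩) (.leaf ⟨[3],3,0⟩)))) (.node (.node (.node (.leaf ⟨[0,2,2,2,0,2,0,2,2,2,0,2,0,2,2,2,0,2,0,2,2,2,0],18,19⟩) (.leaf ⟨[2,1,2,2,0,2,2,2,1,2,2,0,2,2,2,1,2,2,0,2],16,19⟩)) (.node (.leaf ⟨[2,2,2,2,2],12,0⟩) (.leaf ⟨[3],3,0⟩))) (.node (.node (.leaf ⟨[2,0,2,2,2,1,2,2,0,2,2,2,1,2,2,0,2,2,2,1],16,15⟩) (.leaf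 ⟨[2,0,2,0,2,2,2,0,2,0,2,2,2,0,2,0,2,2,2,0,2,0,2],18,22⟩)) (.node (.leaf ⟨[0,2,2,2,1,2,2,0,2,2,2,1,2,2,0,2,2,2,1,2],16,16⟩) (.leaf ⟨[3],3,0⟩)))))
noncomputable def l2r3 : Bt Ru := (.node (.node (.node (.leaf ⟨[2],1,0⟩) (.leaf ⟨[0,0,2,0,0],6,5⟩)) (.node (.leaf ⟨[3,3,3,3,3],10,0⟩) (.leaf ⟨[2],1,0⟩))) (.node (.node (.leaf ⟨[1,1,2,1,1],8,3⟩) (.leaf ⟨[3,3,1,5,1],26,1⟩)) (.node (.leaf ⟨[1,5,1,3,3],26,3⟩) (.leaf ⟨[2],1,0⟩))))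
noncomputable def l2r4 : Bt Ru := (.leaf ⟨[4],4,0⟩)
noncomputable def l2r5 : Bt Ru := (.node (.leaf ⟨[6],23,0⟩) (.leaf ⟨[1,3,3,3,1],26,5⟩))
noncomputable def l2r6 : Bt Ru := (.node (.leaf ⟨[0,2,2,2,0],25,0⟩) (.leaf ⟨[5],24,0⟩))
noncomputable def l2r7 : Bt Ru := (.node (.node (.node (.node (.node (.leaf ⟨[1,3,1,1,2,1],8,2⟩) (.leaf ⟨[1,1,2,1,1,3],8,4⟩)) (.node (.leaf ⟨[2,0,2,2,2,0,2,0,2,2,2,0,2,0,2,2,2,0,2,0,2,2,2,0],18,19⟩) (.leaf ⟨[0,1],5,0⟩))) (.node (.node (.leaf ⟨[2,2,0,2,2,2,1,2,2,0,2,2,2,1,2,2,0,2,2,2,1],16,15⟩) (.leaf ⟨[0,0,2,0,0,3],6,0⟩)) (.node (.leaf ⟨[1,2,2,0,2,2,2,1,2,2,0,2,2,2,1,2,2,0,2,2,2],16,0⟩) (.leaf ⟨[0,1],5,0⟩)))) (.node (.node (.node (.leaf ⟨[6,0,2,2,2,0],25,0⟩)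 (.leaf ⟨[1,5,1,3,3,3],26,4⟩)) (.node (.leaf ⟨[1,3,3,3,1,5],26,0⟩) (.leaf ⟨[0,1],5,0⟩))) (.node (.node (.leaf ⟨[2,0,2,2,2,1,2,2,0,2,2,2,1,2,2,0,2,2,2,1,2],16,16⟩) (.leaf ⟨[0,1],5,0⟩)) (.node (.leaf ⟨[0,2,0,0,3,0],6,1⟩) (.leaf ⟨[0,1],5,0⟩))))) (.node (.node (.node (.node (.leaf ⟨[5,1,3,3,3,1],26,5⟩) (.leaf ⟨[1,1,3,1,1,2],8,1⟩)) (.node (.leaf ⟨[2,2,2,2,2,2],12,0⟩) (.leaf ⟨[0,1],5,0⟩))) (.node (.node (.leaf ⟨[3,3,0,3,3,3,1,3,3,0,3,3,3,1,3,3,0,3,3,3,1],19,18⟩) (.leaf ⟨[0,1],5,0⟩)) (.node (.leaf ⟨[2,1,1,3,1,1],8,0⟩) (.leaf ⟨[0,1],5,0⟩)))) (.node (.node (.node (.leaf ⟨[0,2,2,2,0,6],25,1⟩) (.leaf ⟨[0,0,3,0,0,2],6,3⟩)) (.node (.leaf ⟨[1,2,1,1,3,1],8,5⟩) (.leaf ⟨[0,1],5,0⟩))) (.node (.node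 (.leaf ⟨[3,0,0,2,0,0],6,5⟩) (.leaf ⟨[0,1],5,0⟩)) (.node (.leaf ⟨[0,6,0,2,2,2],25,5⟩) (.leaf ⟨[0,1],5,0⟩))))))
noncomputable def l3r0 : Bt Ru := (.leaf ⟨[1],5,0⟩)
noncomputable def l3r1 : Bt Ru := (.leaf ⟨[0],0,0⟩)
noncomputable def l3r2 : Bt Ru := (.leaf ⟨[2,2,2,2,2],12,0⟩)
noncomputable def l3r3 : Bt Ru := (.leaf ⟨[2],1,0⟩)
noncomputable def l3r4 : Bt Ru := (.leaf ⟨[4],4,0⟩)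
noncomputable def l3r5 : Bt Ru := (.leaf ⟨[6],23,0⟩)
noncomputable def l3r6 : Bt Ru := (.leaf ⟨[5],24,0⟩)
noncomputable def l3r7 : Bt Ru := (.leaf ⟨[0,1],5,0⟩)
noncomputable def l4r0 : Bt Ru := (.node (.node (.node (.node (.leaf ⟨[1],5,0⟩) (.leaf ⟨[2,1,3,0,2,1,3,0,2,1,3],17,10⟩)) (.node (.leaf ⟨[2,2,2,0,6],25,1⟩) (.leaf ⟨[1],5,0⟩))) (.node (.node (.leaf ⟨[3,0,0,2,0],6,4⟩) (.leaf ⟨[1],5,0⟩)) (.node (.leaf ⟨[2,0,0,3,0],6,1⟩) (.leaf ⟨[1],5,0⟩)))) (.node (.node (.node (.leaf ⟨[0,2,0,0,3],6,0⟩) (.leaf ⟨[1],5,0⟩)) (.node (.leaf ⟨[6,0,2,2,2],25,5⟩) (.leaf ⟨[1],5,0⟩))) (.node (.node (.leaf ⟨[0,3,0,0,2],6,3⟩) (.leaf ⟨[1],5,0⟩)) (.node (.leaf ⟨[3,1,2,0,3,1,2,0,3,1,2],13,11⟩) (.leaf ⟨[1],5,0⟩)))))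
noncomputable def l4r1 : Bt Ru := (.node (.node (.node (.node (.leaf ⟨[0],0,0⟩) (.leaf ⟨[3,1,3,3,3,1,3,1,3,3,3,1,3,1,3,3,3,1,3,1,3,3,3],21,21⟩)) (.node (.leaf ⟨[2,1,1,3,1],8,5⟩) (.leaf ⟨[0],0,0⟩))) (.node (.node (.leaf ⟨[1,3,1,1,2],8,1⟩) (.leaf ⟨[0],0,0⟩)) (.node (.leaf ⟨[3,3,3,1,5],26,0⟩) (.leaf ⟨[0],0,0⟩)))) (.node (.node (.node (.leaf ⟨[1,2,1,1,3],8,4⟩) (.leaf ⟨[3,1,3,1,3,1,3,1,3,1,3,1,3,1,3],20,15⟩)) (.node (.leaf ⟨[5,1,3,3,3],26,4⟩) (.leaf ⟨[0],0,0⟩))) (.node (.node (.leaf ⟨[3,1,1,2,1],8,2⟩) (.leaf ⟨[0],0,0⟩)) (.node (.leaf ⟨[3,0,2,1,3,0,2,1,3,0,2],17,0⟩) (.leaf ⟨[0],0,0⟩)))))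
noncomputable def l4r2 : Bt Ru := (.node (.node (.node (.node (.leaf ⟨[2,0,6,0,2],25,3⟩) (.leaf ⟨[0,6,0,2,2],25,4⟩)) (.node (.leaf ⟨[1,3,0,2,1,3,0,2,1,3,0],17,11⟩) (.leaf ⟨[2,2,1,2,2,0,2,2,2,1,2,2,0,2,2,2,1,2,2,0],16,18⟩))) (.node (.node (.leaf ⟨[2,2,2,2,2],12,0⟩) (.leaf ⟨[2,2,0,2,0,2,2,2,0,2,0,2,2,2,0,2,0,2,2,2,0,2,0],18,21⟩)) (.node (.leaf ⟨[2,1,2,2,0,2,2,2,1,2,2,0,2,2,2,1,2,2,0,2],16,19⟩) (.leaf ⟨[2,0,2,2,2,1,2,2,0,2,2,2,1,2,2,0,2,2,2,1],16,15⟩)))) (.node (.node (.node (.leaf ⟨[3],3,0⟩) (.leaf ⟨[0,3,1,2,0,3,1,2,0,3,1],13,10⟩)) (.node (.leaf ⟨[0,2,0,2,0,2,0,2,0,2,0,2,0,2,0],14,15⟩) (.leaf ⟨[0,2,2,2,1,2,2,0,2,2,2,1,2,2,0,2,2,2,1,2],16,16⟩))) (.node (.node (.leaf ⟨[0,0,3,0,0],6,2⟩)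 (.leaf ⟨[0,2,2,2,0,2,0,2,2,2,0,2,0,2,2,2,0,2,0,2,2,2,0],18,19⟩)) (.node (.leaf ⟨[2,0,2,0,2,2,2,0,2,0,2,2,2,0,2,0,2,2,2,0,2,0,2],18,22⟩) (.leaf ⟨[0,2,0,2,2,2,0,2,0,2,2,2,0,2,0,2,2,2,0,2,0,2,2],18,23⟩)))))
noncomputable def l4r3 : Bt Ru := (.node (.node (.node (.node (.leaf ⟨[2],1,0⟩) (.leaf ⟨[1,3,3,3,1,3,1,3,3,3,1,3,1,3,3,3,1,3,1,3,3,3,1],21,22⟩)) (.node (.leaf ⟨[1,2,0,3,1,2,0,3,1,2,0],13,0⟩) (.leaf ⟨[0,3,3,3,1,3,3,0,3,3,3,1,3,3,0,3,3,3,1,3],19,19⟩))) (.node (.node (.leaf ⟨[3,3,3,3,3],10,0⟩) (.leaf ⟨[3,3,1,3,1,3,3,3,1,3,1,3,3,3,1,3,1,3,3,3,1,3,1],21,0⟩)) (.node (.leaf ⟨[3,1,5,1,3],26,2⟩) (.leaf ⟨[3,0,3,3,3,1,3,3,0,3,3,3,1,3,3,0,3,3,3,1],19,18⟩)))) (.node (.node (.node (.leaf ⟨[0,0,2,0,0],6,5⟩)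 (.leaf ⟨[3,1,3,3,0,3,3,3,1,3,3,0,3,3,3,1,3,3,0,3],19,15⟩)) (.node (.leaf ⟨[3,3,1,3,3,0,3,3,3,1,3,3,0,3,3,3,1,3,3,0],19,0⟩) (.leaf ⟨[1,3,1,3,3,3,1,3,1,3,3,3,1,3,1,3,3,3,1,3,1,3,3],21,20⟩))) (.node (.node (.leaf ⟨[1,5,1,3,3],26,3⟩) (.leaf ⟨[3,1,3,1,3,3,3,1,3,1,3,3,3,1,3,1,3,3,3,1,3,1,3],21,19⟩)) (.node (.leaf ⟨[1,3,1,3,1,3,1,3,1,3,1,3,1,3,1],20,0⟩) (.leaf ⟨[0,2,1,3,0,2,1,3,0,2,1],17,9⟩)))))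
noncomputable def l4r4 : Bt Ru := (.leaf ⟨[4],4,0⟩)
noncomputable def l4r5 : Bt Ru := (.node (.leaf ⟨[1,3,3,3,1],26,5⟩) (.leaf ⟨[6],23,0⟩))
noncomputable def l4r6 : Bt Ru := (.node (.leaf ⟨[5],24,0⟩) (.leaf ⟨[0,2,2,2,0],25,0⟩))
noncomputable def l4r7 : Bt Ru := (.node (.node (.node (.node (.node (.node (.leaf ⟨[1,3,3,0,3,3,3,1,3,3,0,3,3,3,1,3,3,0,3,3,3],19,17⟩) (.leaf ⟨[2,0,2,2,2,0,2,0,2,2,2,0,2,0,2,2,2,0,2,0,2,2,2,0],18,19⟩)) (.node (.leaf ⟨[1,3,3,3,1,3,1,3,3,3,1,3,1,3,3,3,1,3,1,3,3,3,1,3],21,23⟩) (.leaf ⟨[0,1],5,0⟩))) (.node (.node (.leaf ⟨[3,0,3,3,3,1,3,3,0,3,3,3,1,3,3,0,3,3,3,1,3],19,19⟩) (.leaf ⟨[0,1],5,0⟩)) (.node (.leaf ⟨[3,1,3,3,0,3,3,3,1,3,3,0,3,3,3,1,3,3,0,3,3],19,16⟩) (.leaf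 ⟨[0,1],5,0⟩)))) (.node (.node (.node (.leaf ⟨[0,2,2,2,0,6],25,1⟩) (.leaf ⟨[3,3,1,3,1,3,3,3,1,3,1,3,3,3,1,3,1,3,3,3,1,3,1,3],21,19⟩)) (.node (.leaf ⟨[2,0,3,1,2,0,3,1,2,0,3,1],13,10⟩) (.leaf ⟨[0,1],5,0⟩))) (.node (.node (.leaf ⟨[1,2,1,1,3,1],8,5⟩) (.leaf ⟨[0,1],5,0⟩)) (.node (.leaf ⟨[2,2,2,0,2,0,2,2,2,0,2,0,2,2,2,0,2,0,2,2,2,0,2,0],18,21⟩) (.leaf ⟨[0,1],5,0⟩))))) (.node (.node (.node (.node (.leaf ⟨[1,3,1,1,2,1],8,2⟩) (.leaf ⟨[3,0,2,1,3,0,2,1,3,0,2,1],17,9⟩)) (.node (.leaf ⟨[3,1,3,1,3,1,3,1,3,1,3,1,3,1,3,1],20,0⟩) (.leaf ⟨[0,1],5,0⟩))) (.node (.node (.leaf ⟨[1,3,3,3,1,5],26,0⟩) (.leaf ⟨[0,1],5,0⟩)) (.node (.leaf ⟨[0,2,2,2,1,2,2,0,2,2,2,1,2,2,0,2,2,2,1,2,2],16,17⟩) (.leaf ⟨[0,1],5,0⟩))))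 (.node (.node (.node (.leaf ⟨[2,1,1,3,1,1],8,0⟩) (.leaf ⟨[1,3,0,2,1,3,0,2,1,3,0,2],17,0⟩)) (.node (.leaf ⟨[3,3,1,3,3,0,3,3,3,1,3,3,0,3,3,3,1,3,3,0,3],19,15⟩) (.leaf ⟨[0,1],5,0⟩))) (.node (.node (.leaf ⟨[0,2,0,2,2,2,0,2,0,2,2,2,0,2,0,2,2,2,0,2,0,2,2,2],18,0⟩) (.leaf ⟨[0,1],5,0⟩)) (.node (.leaf ⟨[1,3,1,3,3,3,1,3,1,3,3,3,1,3,1,3,3,3,1,3,1,3,3,3],21,21⟩) (.leaf ⟨[0,1],5,0⟩)))))) (.node (.node (.node (.node (.node (.leaf ⟨[2,2,2,2,2,2],12,0⟩) (.leaf ⟨[2,0,2,0,2,0,2,0,2,0,2,0,2,0,2,0],14,15⟩)) (.node (.leaf ⟨[2,2,2,1,2,2,0,2,2,2,1,2,2,0,2,2,2,1,2,2,0],16,18⟩) (.leaf ⟨[0,1],5,0⟩))) (.node (.node (.leaf ⟨[2,1,2,2,0,2,2,2,1,2,2,0,2,2,2,1,2,2,0,2,2],16,20⟩) (.leaf ⟨[0,1],5,0⟩)) (.node (.leaf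 ⟨[1,2,2,0,2,2,2,1,2,2,0,2,2,2,1,2,2,0,2,2,2],16,0⟩) (.leaf ⟨[0,1],5,0⟩)))) (.node (.node (.node (.leaf ⟨[6,0,2,2,2,0],25,0⟩) (.leaf ⟨[0,3,3,3,1,3,3,0,3,3,3,1,3,3,0,3,3,3,1,3,3],19,20⟩)) (.node (.leaf ⟨[2,1,3,0,2,1,3,0,2,1,3,0],17,11⟩) (.leaf ⟨[0,1],5,0⟩))) (.node (.node (.leaf ⟨[0,2,0,2,0,2,0,2,0,2,0,2,0,2,0,2],14,0⟩) (.leaf ⟨[0,1],5,0⟩)) (.node (.leaf ⟨[3,3,0,3,3,3,1,3,3,0,3,3,3,1,3,3,0,3,3,3,1],19,18⟩) (.leaf ⟨[0,1],5,0⟩))))) (.node (.node (.node (.node (.leaf ⟨[3,3,3,3,3,3],10,0⟩) (.leaf ⟨[3,3,3,1,3,3,0,3,3,3,1,3,3,0,3,3,3,1,3,3,0],19,0⟩)) (.node (.leaf ⟨[2,2,0,2,2,2,1,2,2,0,2,2,2,1,2,2,0,2,2,2,1],16,15⟩) (.leaf ⟨[0,1],5,0⟩))) (.node (.node (.leaf ⟨[5,1,3,3,3,1],26,5⟩) (.leaf ⟨[0,1],5,0⟩))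 (.node (.leaf ⟨[3,1,2,0,3,1,2,0,3,1,2,0],13,0⟩) (.leaf ⟨[0,1],5,0⟩)))) (.node (.node (.node (.leaf ⟨[2,0,2,2,2,1,2,2,0,2,2,2,1,2,2,0,2,2,2,1,2],16,16⟩) (.leaf ⟨[0,2,1,3,0,2,1,3,0,2,1,3],17,10⟩)) (.node (.leaf ⟨[3,1,1,2,1,1],8,3⟩) (.leaf ⟨[0,1],5,0⟩))) (.node (.node (.leaf ⟨[3,1,3,1,3,3,3,1,3,1,3,3,3,1,3,1,3,3,3,1,3,1,3,3],21,20⟩) (.leaf ⟨[0,1],5,0⟩)) (.node (.leaf ⟨[2,0,2,0,2,2,2,0,2,0,2,2,2,0,2,0,2,2,2,0,2,0,2,2],18,23⟩) (.leaf ⟨[0,1],5,0⟩)))))))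
noncomputable def l0T : List (Bt Nat) := [l0t0, l0t1, l0t2, l0t3, l0t4, (.leaf (nat_lit 0)), (.leaf (nat_lit 0)), l0t7, l0t8]
noncomputable def l0R : List (Bt Ru) := [l0r0, l0r1, l0r2, l0r3, l0r4, l0r5, l0r6, l0r7]
noncomputable def l0c (a lo cnt : Nat) : Nat := chk (gT l0T (nat_lit 14)) (rT l0R) (nat_lit 14) (nat_lit 0xfffc0) (nat_lit 0xfc000) (nat_lit 0x3fc0) (nat_lit 7) (nat_lit 20) (nat_lit 0x3fff) (nat_lit 0x80000003ffffffff) (nat_lit 75) (nat_lit 148) (nat_lit 15) (nat_lit 0x99180) a (nfOf [0,1,2,3,4] 352 a) lo cnt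
noncomputable def l0f (a : Nat) : Nat := l0c a 0 63
noncomputable def l0m (lo cnt : Nat) : Nat := chkM (gT l0T (nat_lit 14)) (nat_lit 14) (nat_lit 0xfffc0) (nat_lit 0xfc000) (nat_lit 0x3fc0) (nat_lit 7) lo cnt
noncomputable def l1T : List (Bt Nat) := [l1t0, l1t1, l1t2, l1t3, (.leaf (nat_lit 0)), l1t5, l1t6, l1t7, l1t8]
noncomputable def l1R : List (Bt Ru) := [l1r0, l1r1, l1r2, l1r3, l1r4, l1r5, l1r6, l1r7]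
noncomputable def l1c (a lo cnt : Nat) : Nat := chk (gT l1T (nat_lit 14)) (rT l1R) (nat_lit 14) (nat_lit 0x1fffc0) (nat_lit 0x1fc000) (nat_lit 0x3fc0) (nat_lit 7) (nat_lit 21) (nat_lit 0x7fff) (nat_lit 0x8000000fffffffff) (nat_lit 50) (nat_lit 98) (nat_lit 108) (nat_lit 0xf1ec0) a (nfOf [0,1,2,3,5,6] 6300 a) lo cnt
noncomputable def l1f (a : Nat) : Nat := l1c a 0 127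
noncomputable def l1m (lo cnt : Nat) : Nat := chkM (gT l1T (nat_lit 14)) (nat_lit 14) (nat_lit 0x1fffc0) (nat_lit 0x1fc000) (nat_lit 0x3fc0) (nat_lit 7) lo cnt
noncomputable def l2T : List (Bt Nat) := [l2t0, l2t1, l2t2, l2t3, (.leaf (nat_lit 0)), l2t5, l2t6, l2t7, l2t8]
noncomputable def l2R : List (Bt Ru) := [l2r0, l2r1, l2r2, l2r3, l2r4, l2r5, l2r6, l2r7]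
noncomputable def l2c (a lo cnt : Nat) : Nat := chk (gT l2T (nat_lit 14)) (rT l2R) (nat_lit 14) (nat_lit 0xffc0) (nat_lit 0xc000) (nat_lit 0x3fc0) (nat_lit 7) (nat_lit 16) (nat_lit 1023) (nat_lit 0x8000000003ffffff) (nat_lit 23) (nat_lit 44) (nat_lit 12) (nat_lit 0x5b80) a (nfOf [2,3,5,6] 40 a) lo cnt
noncomputable def l2f (a : Nat) : Nat := l2c a 0 3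
noncomputable def l2m (lo cnt : Nat) : Nat := chkM (gT l2T (nat_lit 14)) (nat_lit 14) (nat_lit 0xffc0) (nat_lit 0xc000) (nat_lit 0x3fc0) (nat_lit 7) lo cnt
noncomputable def l3T : List (Bt Nat) := [(.leaf (nat_lit 0)), (.leaf (nat_lit 0)), l3t2, l3t3, (.leaf (nat_lit 0)), (.leaf (nat_lit 0)), (.leaf (nat_lit 0)), (.leaf (nat_lit 0)), l3t8]
noncomputable def l3R : List (Bt Ru) := [l3r0, l3r1, l3r2, l3r3, l3r4, l3r5, l3r6, l3r7]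
noncomputable def l3c (a lo cnt : Nat) : Nat := chk (gT l3T (nat_lit 14)) (rT l3R) (nat_lit 14) (nat_lit 0x7fc0) (nat_lit 0x4000) (nat_lit 0x3fc0) (nat_lit 7) (nat_lit 15) (nat_lit 511) (nat_lit 0x8000000000ffffff) (nat_lit 3) (nat_lit 4) (nat_lit 0) (nat_lit 0x4140) a (nfOf [2,3] 6 a) lo cnt
noncomputable def l3f (a : Nat) : Nat := l3c a 0 1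
noncomputable def l3m (lo cnt : Nat) : Nat := chkM (gT l3T (nat_lit 14)) (nat_lit 14) (nat_lit 0x7fc0) (nat_lit 0x4000) (nat_lit 0x3fc0) (nat_lit 7) lo cnt
noncomputable def l4T : List (Bt Nat) := [l4t0, l4t1, l4t2, l4t3, (.leaf (nat_lit 0)), l4t5, l4t6, l4t7, l4t8]
noncomputable def l4R : List (Bt Ru) := [l4r0, l4r1, l4r2, l4r3, l4r4, l4r5, l4r6, l4r7]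
noncomputable def l4c (a lo cnt : Nat) : Nat := chk (gT l4T (nat_lit 14)) (rT l4R) (nat_lit 14) (nat_lit 0x7ffc0) (nat_lit 0x7c000) (nat_lit 0x3fc0) (nat_lit 7) (nat_lit 19) (nat_lit 8191) (nat_lit 0x80000000ffffffff) (nat_lit 42) (nat_lit 82) (nat_lit 108) (nat_lit 0x4000) a (nfOf [] 0 a) lo cnt
noncomputable def l4f (a : Nat) : Nat := l4c a 0 31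
noncomputable def l4m (lo cnt : Nat) : Nat := chkM (gT l4T (nat_lit 14)) (nat_lit 14) (nat_lit 0x7ffc0) (nat_lit 0x7c000) (nat_lit 0x3fc0) (nat_lit 7) lo cnt

end Cfsg.Agent.TCX.HSxA
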