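import Cfsg.Agent.Lib.TCX.HSxA.C0
import Cfsg.Agent.Lib.TCX.Cert

set_option autoImplicit false
set_option maxRecDepth 100000
set_option Elab.async false

namespace Cfsg.Agent.TCX.HSxA

open Cfsg.Agent.CG

/-- The relators used. -/
noncomputable def R : List (List ℕ) := [[1,0],
  [3,2],
  [4,0,4,0],
  [2,3],
  [4,4],
  [0,1],
  [0,0,2,0,0,3],
  [4,3,1,3,1,3,3,3,4,2,2,2,0,2,0,2,0,3,1,3,1,3,3,3,4,2,2,2,0,2,0,2,0,3,1,3,1,3,3,3,4,2,2,2,0,2,0,2,0],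
  [2,1,1,3,1,1],
  [1,3,1,3,1,3,3,3,4,2,2,2,0,2,0,2,1,3,1,3,1,3,3,3,4,2,2,2,0,2,0,2,1,3,1,3,1,3,3,3,4,2,2,2,0,2,0,2,4],
  [3,3,3,3,3,3],
  [1,4,1,4],
  [2,2,2,2,2,2],
  [3,1,2,0,3,1,2,0,3,1,2,0],
  [0,2,0,2,0,2,0,2,0,2,0,2,0,2,0,2],
  [4,2,1,3,3,1,3,1,3,4,2,0,2,0,2,2,0,3,1,1],
  [1,2,2,0,2,2,2,1,2,2,0,2,2,2,1,2,2,0,2,2,2],
  [1,3,0,2,1,3,0,2,1,3,0,2],
  [0,2,0,2,2,2,0,2,0,2,2,2,0,2,0,2,2,2,0,2,0,2,2,2],
  [3,3,3,1,3,3,0,3,3,3,1,3,3,0,3,3,3,1,3,3,0],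
  [3,1,3,1,3,1,3,1,3,1,3,1,3,1,3,1],
  [3,3,3,1,3,1,3,3,3,1,3,1,3,3,3,1,3,1,3,3,3,1,3,1],
  [0,0,2,1,3,3,1,3,1,3,4,2,0,2,0,2,2,0,3,4],
  [5,6],
  [6,5],
  [6,0,2,2,2,0],
  [1,3,3,3,1,5]]

noncomputable def invL : List ℕ := [1,0,3,2,4,6,5]

/-- How the relators used follow from the given ones. -/
noncomputable def hints : List (ℕ × Bool × List ℕ) := [(14,false,[]),
  (14,false,[]),
  (9,false,[]),
  (14,false,[]),
  (14,false,[]),
  (14,false,[]),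
  (4,false,[]),
  (11,false,[]),
  (4,true,[]),
  (11,true,[]),
  (3,true,[]),
  (9,true,[]),
  (3,false,[]),
  (5,true,[]),
  (7,false,[]),
  (10,false,[]),
  (6,false,[]),
  (5,false,[]),
  (8,false,[]),
  (6,true,[]),
  (7,true,[]),
  (8,true,[]),
  (10,true,[]),
  (14,false,[]),
  (14,false,[]),
  (13,false,[]),
  (13,true,[])]

theorem l0g (a : ℕ) : Glue (l0c a) := fun _ _ _ => chk_append
theorem l0f0 : l0f 0 = 0 :=
  show l0c 0 0 63 = 0 from c0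
theorem l0f1 : l0f 1 = 0 :=
  show l0c 1 0 63 = 0 from c1
theorem l0f2 : l0f 2 = 0 :=
  show l0c 2 0 63 = 0 from c2
theorem l0f3 : l0f 3 = 0 :=
  show l0c 3 0 63 = 0 from c3
theorem l0f4 : l0f 4 = 0 :=
  show l0c 4 0 63 = 0 from c4
theorem l0f5 : l0f 5 = 0 :=
  show l0c 5 0 63 = 0 from c5
theorem l0f6 : l0f 6 = 0 :=
  show l0c 6 0 63 = 0 from c6
theorem l0f7 : l0f 7 = 0 :=
  show l0c 7 0 63 = 0 from (l0g 7).app (n := 63) (c7) c8 rfl rfl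
theorem l0all : ∀ a, a < 8 → l0f a = 0 :=
  allz_snoc (allz_snoc (allz_snoc (allz_snoc (allz_snoc (allz_snoc (allz_snoc (allz_snoc (allz_zero _) l0f0) l0f1) l0f2) l0f3) l0f4) l0f5) l0f6) l0f7
theorem l0ru : allLt (rusChk R (nat_lit 7) l0R) 8 = true := by decide +kernel
theorem l0gm : Glue l0m := fun _ _ _ => chkM_append
theorem l0mm : l0m 352 9191 = 0 := c9
theorem l0_ok : Idx R [0,1,2,3,4] [0,1,2,3] 352 :=
  idx_of_chk (cm := 9191) (q := 8) (d := 6) (s2 := 34) (full := 63) (f := l0f) (by decide +kernel) (by decide +kernel) (fun _ => rfl) l0all l0ru (by decide +kernel) (by decide +kernel) l0mm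

theorem l1g (a : ℕ) : Glue (l1c a) := fun _ _ _ => chk_append
theorem l1f0 : l1f 0 = 0 :=
  show l1c 0 0 127 = 0 from c10
theorem l1f1 : l1f 1 = 0 :=
  show l1c 1 0 127 = 0 from c11
theorem l1f2 : l1f 2 = 0 :=
  show l1c 2 0 127 = 0 from c12
theorem l1f3 : l1f 3 = 0 :=
  show l1c 3 0 127 = 0 from c13
theorem l1f4 : l1f 4 = 0 :=
  show l1c 4 0 127 = 0 from c14
theorem l1f5 : l1f 5 = 0 :=
  show l1c 5 0 127 = 0 from c15
theorem l1f6 : l1f 6 = 0 :=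
  show l1c 6 0 127 = 0 from c16
theorem l1f7 : l1f 7 = 0 :=
  show l1c 7 0 127 = 0 from (l1g 7).app (n := 127) (c17) c18 rfl rfl
theorem l1all : ∀ a, a < 8 → l1f a = 0 :=
  allz_snoc (allz_snoc (allz_snoc (allz_snoc (allz_snoc (allz_snoc (allz_snoc (allz_snoc (allz_zero _) l1f0) l1f1) l1f2) l1f3) l1f4) l1f5) l1f6) l1f7
theorem l1ru : allLt (rusChk R (nat_lit 7) l1R) 8 = true := by decide +kernel
theorem l1gm : Glue l1m := fun _ _ _ => chkM_append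
theorem l1mm : l1m 6300 8928 = 0 := c19
theorem l1_ok : Idx R [0,1,2,3,5,6] [2,3,5,6] 6300 :=
  idx_of_chk (cm := 8928) (q := 8) (d := 7) (s2 := 36) (full := 127) (f := l1f) (by decide +kernel) (by decide +kernel) (fun _ => rfl) l1all l1ru (by decide +kernel) (by decide +kernel) l1mm

theorem l2all : ∀ a, a < 8 → l2f a = 0 :=
  allz_of_orR c20
theorem l2ru : allLt (rusChk R (nat_lit 7) l2R) 8 = true := by decide +kernel
theorem l2gm : Glue l2m := fun _ _ _ => chkM_append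
theorem l2mm : l2m 40 71 = 0 := c21
theorem l2_ok : Idx R [2,3,5,6] [2,3] 40 :=
  idx_of_chk (cm := 71) (q := 8) (d := 2) (s2 := 26) (full := 3) (f := l2f) (by decide +kernel) (by decide +kernel) (fun _ => rfl) l2all l2ru (by decide +kernel) (by decide +kernel) l2mm

theorem l3all : ∀ a, a < 8 → l3f a = 0 :=
  allz_of_orR c22
theorem l3ru : allLt (rusChk R (nat_lit 7) l3R) 8 = true := by decide +kernel
theorem l3gm : Glue l3m := fun _ _ _ => chkM_append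
theorem l3mm : l3m 6 0 = 0 := c23
theorem l3_ok : Idx R [2,3] [] 6 :=
  idx_of_chk (cm := 0) (q := 8) (d := 1) (s2 := 24) (full := 1) (f := l3f) (by decide +kernel) (by decide +kernel) (fun _ => rfl) l3all l3ru (by decide +kernel) (by decide +kernel) l3mm

theorem l4all : ∀ a, a < 8 → l4f a = 0 :=
  allz_of_orR c24
theorem l4ru : allLt (rusChk R (nat_lit 7) l4R) 8 = true := by decide +kernel
noncomputable def l4W : List (List ℕ) := [[0,3,3,0,2,2,0,3,1,3,1,2,2,1,3,3,1,2,0,2,0,1,3,3,0,2,2,0,3,1,3,1,2,2,1,3,3,1,2,0,2,0]]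
theorem l4_ok : Mem R [2,3,5,6] l4W :=
  mem_of_chk (q := 8) (d := 5) (s2 := 32) (full := 31) (f := l4f) (by decide +kernel) (by decide +kernel) (fun _ => rfl) l4all l4ru (by decide +kernel) (by decide +kernel)


end Cfsg.Agent.TCX.HSxA
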